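import Mathlib.Algebra.Polynomial.Coeff
import Mathlib.Algebra.Polynomial.Eval.Degree
import Mathlib.Algebra.Polynomial.Reverse
import Mathlib.Algebra.CharP.Basic
import Mathlib.Algebra.CharP.Two
import Mathlib.Data.Nat.Choose.Lucas
import Mathlib.LinearAlgebra.Matrix.Block
import Mathlib.Algebra.BigOperators.Fin

/-!
# Cartier–Manin matrices of hyperelliptic equations
-/

namespace GrothLib.CartierManin

open Polynomial

variable {k : Type*} [Field k] (p : ℕ) [Fact p.Prime]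

theorem natDegree_pow_half_le (hp : p ≠ 2) {g : ℕ} {f : k[X]} (hf : f.natDegree ≤ 2 * g + 2) :
    (f ^ ((p - 1) / 2)).natDegree ≤ (g + 1) * (p - 1) := by
  have hodd : (p - 1) / 2 * 2 = p - 1 := by
    obtain ⟨m, hm⟩ := (Fact.out : p.Prime).odd_of_ne_two hp
    omega
  refine natDegree_pow_le.trans ((Nat.mul_le_mul_left _ hf).trans (le_of_eq ?_))
  conv_rhs => rw [← hodd]
  ring

theorem cast_choose [CharP k p] (a r b s : ℕ) (hr : r < p) (hs : s < p) :
    ((a * p + r).choose (b * p + s) : k) = (r.choose s : k) * (a.choose b : k) := by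
  rw [← Nat.cast_mul, CharP.natCast_eq_natCast k p]
  refine (Choose.choose_modEq_choose_mod_mul_choose_div_nat).trans ?_
  have hp0 : 0 < p := (Fact.out : p.Prime).pos
  rw [Nat.mul_add_mod_self_right, Nat.mul_add_mod_self_right, Nat.mod_eq_of_lt hr,
    Nat.mod_eq_of_lt hs, Nat.add_comm (a * p), Nat.add_comm (b * p),
    Nat.add_mul_div_right _ _ hp0, Nat.add_mul_div_right _ _ hp0, Nat.div_eq_of_lt hr,
    Nat.div_eq_of_lt hs, zero_add, zero_add]

theorem coeff_translate [CharP k p] {g : ℕ} (hg : g ≤ p) {h : k[X]}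
    (hh : h.natDegree ≤ (g + 1) * (p - 1)) (α : k) (i j : Fin g) :
    (h.comp (X + C α)).coeff (((i : ℕ) + 1) * p - ((j : ℕ) + 1)) =
      ∑ J : Fin g, ∑ I : Fin g,
        ((((I : ℕ).choose (i : ℕ) : ℕ) : k) * α ^ (((I : ℕ) - (i : ℕ)) * p) *
          h.coeff (((I : ℕ) + 1) * p - ((J : ℕ) + 1))) *
        ((((p - ((J : ℕ) + 1)).choose (p - ((j : ℕ) + 1)) : ℕ) : k) * α ^ ((j : ℕ) - (J : ℕ))) := by
  have hp0 : 1 < p := (Fact.out : p.Prime).one_lt
  have hjg := j.2
  have hpos : (g + 1) * (p - 1) < (g + 1) * p :=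
    Nat.mul_lt_mul_of_pos_left (by omega) (by omega)
  have hl : ((i : ℕ) + 1) * p - ((j : ℕ) + 1) = (i : ℕ) * p + (p - ((j : ℕ) + 1)) := by
    rw [Nat.succ_mul]; omega
  have hexp : h.comp (X + C α) = ∑ L ∈ Finset.range ((g + 1) * p), C (h.coeff L) * (X + C α) ^ L := by
    conv_lhs => rw [h.as_sum_range_C_mul_X_pow' (hh.trans_lt hpos)]
    simp [comp, eval₂_finsetSum]
  rw [hexp, finsetSum_coeff]
  simp only [coeff_C_mul, coeff_X_add_C_pow]
  set l := ((i : ℕ) + 1) * p - ((j : ℕ) + 1)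
  rw [Finset.sum_range (fun L => h.coeff L * (α ^ (L - l) * (L.choose l : k))),
    ← finProdFinEquiv.sum_comp]
  simp only [finProdFinEquiv_apply_val]
  rw [Finset.sum_comm (γ := Fin g), ← Fintype.sum_prod_type' (γ := k)]
  symm
  let e : Fin g × Fin g → Fin (g + 1) × Fin p := fun x => (x.1.castSucc, (x.2.castLE hg).rev)
  refine Fintype.sum_of_injective e ?_ _ _ ?_ ?_
  · rintro ⟨a, b⟩ ⟨a', b'⟩ hab
    simp only [e, Prod.mk.injEq, Fin.castSucc_inj, Fin.rev_inj, Fin.castLE_inj] at hab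
    simp [hab.1, hab.2]
  · rintro ⟨a, r⟩ hnot
    have hL : (r : ℕ) + p * (a : ℕ) = (a : ℕ) * p + r := by ring
    simp only [hL]
    by_cases hr : (r : ℕ) < p - ((j : ℕ) + 1)
    · rw [hl, cast_choose p _ _ _ _ r.2 (by omega), Nat.choose_eq_zero_of_lt hr]
      simp
    · have hrev : (r.rev : ℕ) < g := by
        have := r.2
        rw [Fin.val_rev]; omega
      rw [coeff_eq_zero_of_natDegree_lt, zero_mul]
      refine hh.trans_lt ?_
      by_contra hlt
      refine hnot ⟨(⟨(a : ℕ), ?_⟩, ⟨r.rev, hrev⟩), ?_⟩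
      · have h1 := a.2
        rcases Nat.lt_or_ge (a : ℕ) g with h2 | h2
        · exact h2
        · exfalso
          apply hlt
          rw [show (a : ℕ) = g by omega, Nat.succ_mul, Nat.mul_sub_one]
          have := r.2
          have : g ≤ g * p := Nat.le_mul_of_pos_right _ (by omega)
          omega
      · refine Prod.ext (Fin.ext rfl) ?_
        show (Fin.castLE hg ⟨r.rev, hrev⟩).rev = r
        rw [show Fin.castLE hg ⟨r.rev, hrev⟩ = r.rev from Fin.ext rfl, Fin.rev_rev]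
  · rintro ⟨I, J⟩
    have hJ := J.2
    have hL : ((e (I, J)).2 : ℕ) + p * ((e (I, J)).1 : ℕ) =
        (I : ℕ) * p + (p - ((J : ℕ) + 1)) := by
      simp only [e, Fin.val_rev, Fin.val_castLE, Fin.val_castSucc]
      ring
    have hidx : ((I : ℕ) + 1) * p - ((J : ℕ) + 1) = (I : ℕ) * p + (p - ((J : ℕ) + 1)) := by
      rw [Nat.succ_mul]; omega
    dsimp only
    rw [hL, hidx, hl, cast_choose p _ _ _ _ (by omega) (by omega)]
    by_cases h0 : (J : ℕ) ≤ j ∧ (i : ℕ) ≤ I
    · rw [show (I : ℕ) * p + (p - ((J : ℕ) + 1)) - ((i : ℕ) * p + (p - ((j : ℕ) + 1))) =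
        ((I : ℕ) - (i : ℕ)) * p + ((j : ℕ) - (J : ℕ)) by
          have h1 := Nat.mul_le_mul_right p h0.2
          rw [Nat.sub_mul]
          omega, pow_add]
      ring
    · rcases not_and_or.mp h0 with h0 | h0
      · rw [Nat.choose_eq_zero_of_lt (show p - ((J : ℕ) + 1) < p - ((j : ℕ) + 1) by omega)]
        simp
      · rw [Nat.choose_eq_zero_of_lt (show (I : ℕ) < i by omega)]
        simp

theorem coeff_pow_reflect (hp : p ≠ 2) {g : ℕ} (hg : g ≤ p) {f : k[X]}
    (hf : f.natDegree ≤ 2 * g + 2) (i j : Fin g) :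
    ((reflect (2 * g + 2) f) ^ ((p - 1) / 2)).coeff (((i : ℕ) + 1) * p - ((j : ℕ) + 1)) =
      (f ^ ((p - 1) / 2)).coeff (((Fin.rev i : ℕ) + 1) * p - ((Fin.rev j : ℕ) + 1)) := by
  have hodd : 2 * ((p - 1) / 2) = p - 1 := by
    obtain ⟨m, hm⟩ := (Fact.out : p.Prime).odd_of_ne_two hp
    omega
  have hpow : ∀ n : ℕ, reflect ((2 * g + 2) * n) (f ^ n) = reflect (2 * g + 2) f ^ n := by
    intro n
    induction n with
    | zero =>
      ext m
      rw [coeff_reflect, pow_zero, pow_zero]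
      rcases m with _ | m <;> simp [revAt, coeff_one]
    | succ n ih =>
      rw [Nat.mul_succ, pow_succ, pow_succ, reflect_mul _ _
        (natDegree_pow_le.trans (by rw [mul_comm]; exact Nat.mul_le_mul_right _ hf)) hf, ih]
  rw [← hpow, coeff_reflect]
  have hi := i.2
  have hj := j.2
  have hN : (2 * g + 2) * ((p - 1) / 2) = (g + 1) * (p - 1) := by
    rw [show 2 * g + 2 = (g + 1) * 2 by ring, mul_assoc, hodd]
  obtain ⟨P, rfl⟩ : ∃ P, p = P + 1 := ⟨p - 1, by have := (Fact.out : p.Prime).pos; omega⟩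
  obtain ⟨d, hd⟩ : ∃ d, g = (i : ℕ) + d + 1 := ⟨g - (i : ℕ) - 1, by omega⟩
  rw [revAt_le, hN]
  · congr 1
    rw [Fin.val_rev, Fin.val_rev, show g - ((i : ℕ) + 1) = d by omega]
    generalize (i : ℕ) = a at *
    generalize (j : ℕ) = b at *
    subst hd
    simp only [Nat.add_sub_cancel, add_mul, mul_add, one_mul, mul_one]
    omega
  · rw [hN]
    generalize (i : ℕ) = a at *
    generalize (j : ℕ) = b at *
    subst hd
    simp only [Nat.add_sub_cancel, add_mul, mul_add, one_mul, mul_one]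
    omega

end GrothLib.CartierManin
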